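import Cfsg.Agent.Lib.MonomialMult.U43.Tables

/-!
A lift preserves the labelled graph.
Written by a script.
-/

set_option autoImplicit false
set_option maxRecDepth 100000
set_option maxHeartbeats 0
set_option Elab.async false

namespace Cfsg.Agent.MonomialMult.U43

open Cfsg.Agent.Lib.PcMult

theorem clift0_0 : liftB 3 540 adj cover.w cP0 cf0 0 180 = true := by decide +kernel

theorem clift0_1 : liftB 3 540 adj cover.w cP0 cf0 180 180 = true := by decide +kernel

theorem clift0_2 : liftB 3 540 adj cover.w cP0 cf0 360 180 = true := by decide +kernel

theorem clift0 : ∀ x < 540, edgeB 3 540 adj cover.w cP0 cf0 x = true :=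
  edges_of_chunks (s := 3) (c := 180) (by norm_num) (by norm_num) fun i hi => by
    interval_cases i
    · exact clift0_0
    · exact clift0_1
    · exact clift0_2

end Cfsg.Agent.MonomialMult.U43
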