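import Cfsg.Agent.Lib.MonomialMult.Assemble
import Cfsg.Agent.Lib.MonomialMult.FieldChange
import Cfsg.Agent.Lib.MonomialMult.U43.Cover
import Cfsg.Agent.Lib.MonomialMult.U43.Lift0
import Cfsg.Agent.Lib.MonomialMult.U43.Lift1
import Cfsg.Agent.Lib.MonomialMult.U43.CLift0
import Cfsg.Agent.Lib.MonomialMult.U43.CLift1
import Cfsg.Agent.Lib.MonomialMult.U43.CLift2
import Cfsg.Agent.Lib.MonomialMult.U43.CLift3
import Cfsg.Agent.Lib.MonomialMult.U43.CheckTab2
import Cfsg.Agent.Lib.MonomialMult.U43.CheckReal2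
import Cfsg.Agent.Lib.MonomialMult.U43.CheckCert2
import Cfsg.Agent.Lib.MonomialMult.U43.CheckTab3
import Cfsg.Agent.Lib.MonomialMult.U43.CheckReal3
import Cfsg.Agent.Lib.MonomialMult.U43.CheckCert3

/-!
The multiplier of the projective special unitary group of dimension four over the field with nine elements.
-/

set_option autoImplicit false
set_option maxRecDepth 100000

namespace Cfsg.Agent.MonomialMult.U43

open Cfsg.Agent.Lib.PcMult Cfsg.Agent.Classical.Unitary

universe u

theorem card_psu : Nat.card (Cfsg.PSU 4 Nine 3) = 3265920 := by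
  have h := natCard_PSU_mul (n := 4) (q := 3) (F := Nine) Nine.card (by norm_num)
  rw [natCard_GU Nine.card, show Nat.gcd 4 (3 + 1) = 4 from rfl] at h
  simp [Finset.prod_range_succ, Nat.even_iff] at h
  omega

theorem not_exceptional : ¬ ((4 : ℕ) = 3 ∧ (3 : ℕ) = 2) := by omega

theorem par_lt : cover.par 0 < pts.m := by decide +kernel

theorem no_eight {Γ : Type} [Group Γ] [Finite Γ] {σ : Γ →* Cfsg.PSU 4 Nine 3} (hσ : Cfsg.IsStemExtension σ) :
    ¬ 2 ^ 3 ∣ Nat.card σ.ker := by
  haveI := Fact.mk Nat.prime_two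
  refine sylow_bound good (by norm_num) not_exceptional cover_ok par_lt tab2 real2 (m' := 8) (d := 4) (p := 2) (k := 3)
    (by norm_num) (by norm_num) Nat.prime_two (fun K _ hK τ => ⟨_, vecOps_valid hK τ⟩) check2 ?_ rfl rfl ?_ hσ
  · rw [card_psu, show (3265920 : ℕ) = 2 ^ 7 * 25515 by norm_num]
    exact factorization_split Nat.prime_two (by norm_num)
  · decide

theorem no_twentyseven {Γ : Type} [Group Γ] [Finite Γ] {σ : Γ →* Cfsg.PSU 4 Nine 3}
    (hσ : Cfsg.IsStemExtension σ) : ¬ 3 ^ 3 ∣ Nat.card σ.ker := by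
  haveI := Fact.mk Nat.prime_three
  refine sylow_bound good (by norm_num) not_exceptional cover_ok par_lt tab3 real3 (m' := 27) (d := 3) (p := 3) (k := 3)
    (by norm_num) (by norm_num) Nat.prime_three (fun K _ hK τ => ⟨_, vecOps_valid hK τ⟩) check3 ?_ rfl rfl ?_ hσ
  · rw [card_psu, show (3265920 : ℕ) = 3 ^ 6 * 4480 by norm_num]
    exact factorization_split Nat.prime_three (by norm_num)
  · decide

theorem card_ker_le {Γ : Type} [Group Γ] [Finite Γ] (σ : Γ →* Cfsg.PSU 4 Nine 3)
    (hσ : Cfsg.IsStemExtension σ) : Nat.card σ.ker ≤ 36 := by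
  refine Nat.le_of_dvd (by norm_num) (dvd_of_primes Nat.card_pos.ne' (by norm_num) fun p hp => ?_)
  by_cases h2 : p = 2
  · subst h2
    rw [show (36 : ℕ) = 2 ^ 2 * 9 by norm_num, factorization_split Nat.prime_two (by norm_num)]
    exact no_eight hσ
  by_cases h3 : p = 3
  · subst h3
    rw [show (36 : ℕ) = 3 ^ 2 * 4 by norm_num, factorization_split Nat.prime_three (by norm_num)]
    exact no_twentyseven hσ
  have hnd : ¬ p ∣ 36 := fun hd => by
    have : p ≤ 36 := Nat.le_of_dvd (by norm_num) hd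
    interval_cases p <;> revert hp hd h2 h3 <;> norm_num
  rw [Nat.factorization_eq_zero_of_not_dvd hnd, Nat.zero_add, pow_one]
  refine not_dvd_of_sq hp (fun hd => ?_) hσ
  rw [card_psu, show (3265920 : ℕ) = 2 ^ 7 * (3 ^ 6 * 35) by norm_num] at hd
  have c2 : Nat.Coprime (p ^ 2) (2 ^ 7) := ((Nat.coprime_primes hp Nat.prime_two).2 h2).pow _ _
  have c3 : Nat.Coprime (p ^ 2) (3 ^ 6) := ((Nat.coprime_primes hp Nat.prime_three).2 h3).pow _ _
  have h35 : p ^ 2 ∣ 35 := c3.dvd_of_dvd_mul_left (c2.dvd_of_dvd_mul_left hd)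
  have : p < 6 := by nlinarith [Nat.le_of_dvd (by norm_num : 0 < 35) h35]
  interval_cases p <;> revert hp h35 h2 h3 <;> norm_num

theorem exists_cover36 : ∃ (E : Type) (_ : Group E) (_ : Finite E) (θ : E →* Cfsg.PSU 4 Nine 3),
    Cfsg.IsStemExtension θ ∧ Nonempty (θ.ker ≃* Multiplicative (ZMod 4 × ZMod 3 × ZMod 3)) := by
  obtain ⟨X, _, _, σ, hσ, ⟨eX⟩⟩ := exists_center_cover (D := pts) good (by norm_num) not_exceptional
  haveI : NeZero cover.p := ⟨by decide⟩
  obtain ⟨Y, _, _, τ, hτ, ⟨eY⟩⟩ := exists_pair_cover good (by norm_num) not_exceptional cover_ok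
    (fun k hk => by
      have hk' : k < 2 := hk
      interval_cases k
      · exact lift0
      · exact lift1)
    (fun k hk => by
      interval_cases k
      · exact clift0
      · exact clift1
      · exact clift2
      · exact clift3) par_lt
  obtain ⟨E, i1, i2, θ, hθ, ⟨e⟩⟩ := exists_prod (perfect good (by norm_num) not_exceptional)
    (A := Multiplicative (ZMod 4)) (B := Multiplicative (ZMod 3 × ZMod 3))
    (by simp [Nat.card_prod]; decide) hσ eX hτ eY
  exact ⟨E, i1, i2, θ, hθ, ⟨e.trans (MulEquiv.prodMultiplicative (ZMod 4) (ZMod 3 × ZMod 3)).symm⟩⟩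

theorem main {F : Type u} [Field F] [Fintype F] (hF : Fintype.card F = 9) :
    Cfsg.HasSchurMultiplier (Cfsg.PSU 4 F 3) (Multiplicative (ZMod 4 × ZMod 3 × ZMod 3)) := by
  obtain ⟨e⟩ := psu_field_equiv (n := 4) (q := 3)
    (FiniteField.ringEquivOfCardEq (by rw [hF, Nine.card]; rfl) : F ≃+* Nine)
  refine hasSchur_of_model e (perfect good (by norm_num) not_exceptional) exists_cover36 fun Δ _ _ τ hτ => ?_
  refine (card_ker_le τ hτ).trans (le_of_eq ?_)
  simp [Nat.card_prod]

end Cfsg.Agent.MonomialMult.U43
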